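import Cfsg.Agent.Lib.Spor.Cos.J3.Cover
import Cfsg.Agent.Lib.Spor.Cos.J3.Transfer

/-!
A copy of the third Janko group is isomorphic to the certified permutation model.
-/

set_option autoImplicit false

open Cfsg Cfsg.Agent.Spor.Cos Cfsg.Agent.Spor.Cos.J3

namespace Cfsg.Agent.Fus.J3Fusion

theorem exists_iso {G : Type*} [Group G] (hG : Cfsg.Spor.IsoJ3 G) : Nonempty (P ≃* G) := by
  obtain ⟨F, _, _, ω, hF, hω, ⟨f⟩⟩ := hG
  obtain ⟨φ, -, ⟨e⟩⟩ := exists_transfer hF ω hω
  have hmap : (Subgroup.center U9).map e.toMonoidHom = Subgroup.center ↥(Cfsg.Spor.threeJ3 F ω) := by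
    ext x
    simp only [Subgroup.mem_map, MulEquiv.coe_toMonoidHom, Subgroup.mem_center_iff]
    constructor
    · rintro ⟨u, hu, rfl⟩ y
      obtain ⟨v, rfl⟩ := e.surjective y
      rw [← map_mul, ← map_mul, hu v]
    · intro hx
      refine ⟨e.symm x, fun v => e.injective ?_, e.apply_symm_apply x⟩
      rw [map_mul, map_mul, e.apply_symm_apply]
      exact hx (e v)
  exact ⟨(quotEquiv.symm.trans (QuotientGroup.congr _ _ e hmap)).trans f.symm⟩

end Cfsg.Agent.Fus.J3Fusion
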