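import Cfsg.Agent.Lib.Fus.ListReach
import Cfsg.Agent.Lib.Fus.SimpleCriterion
import Cfsg.Agent.Lib.Spor.Cos.J3Cent.Main

/-!
The 2-fusion system of the third Janko group is simple: the Sylow subgroup is generated by its involutions, all
conjugate, and its normaliser lies in an involution centraliser, the normaliser of a self-centralising subgroup
generated by elements of 2-power order.
-/

set_option autoImplicit false
set_option maxRecDepth 100000
set_option maxHeartbeats 4000000

open Cfsg.Agent.Spor.Cos Cfsg.Agent.Spor.Cos.J3Cent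

namespace Cfsg.Agent.Fus.J3Fusion

theorem s_reach : chkReach sL 4 = true := by decide +kernel

theorem h_reach : chkReach hL 4 = true := by decide +kernel

/-- The only central involution is the given one. -/
noncomputable def chkCentre : Bool :=
  (List.range 128).all fun i => Nat.beq i 0 || !(Nat.beq (sL.prod i i) 0) ||
    agree J3.actA [0, 5, 1] (sL.W.getD i []) [1] ||
    !((List.range 128).all fun j => Nat.beq (sL.prod i j) (sL.prod j i))

theorem centre_chk : chkCentre = true := by decide +kernel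

theorem q_sub_s : (qL.W.all fun w => sL.W.any fun v => agree J3.actA [0, 5, 1] w v) = true := by decide +kernel

/-- A non-trivial element of the complement acts as no element of the normal subgroup. -/
noncomputable def chkOuter : Bool :=
  (List.range 60).all fun i => Nat.beq i 0 || (List.range 32).all fun j =>
    !((List.range 32).all fun k => Nat.beq (qL.prod (conjQ.at (i * 32 + k)) j) (qL.prod j k))

theorem outer_chk : chkOuter = true := by decide +kernel

theorem q_one : qL.W.getD 1 [] = [1] := by decide +kernel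

variable {G : Type*} [Group G] [Finite G]

theorem card_G (e : J3.P ≃* G) : Nat.card G = 50232960 := (Nat.card_congr e.toEquiv).symm.trans J3.card_eq

theorem card_two (e : J3.P ≃* G) : Nat.card (sL.grp (gJ e)) = 2 ^ (Nat.card G).factorization 2 := by
  rw [ListGrp.card_grp (ok_s e), m_s, card_G e, show (50232960 : ℕ) = 2 ^ 7 * 392445 by norm_num,
    Nat.factorization_mul (by norm_num) (by norm_num), Finsupp.add_apply,
    Nat.Prime.factorization_pow Nat.prime_two, Finsupp.single_eq_same,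
    Nat.factorization_eq_zero_of_not_dvd (show ¬ 2 ∣ 392445 by norm_num)]
  norm_num

theorem ok_words {L : ListGrp} (hc : L.chk J3.actA [0, 5, 1] = true) {i : ℕ} (hi : i < L.m) :
    Act.lettersOk J3.actA.n [L.W.getD i []] = true := by
  simp only [ListGrp.chk, Bool.and_eq_true] at hc
  simp only [Act.lettersOk, List.all_cons, List.all_nil, Bool.and_true]
  rw [List.getD_eq_getElem _ _ (show i < L.W.length from hi)]
  exact List.all_eq_true.1 hc.1.1.1 _ (List.getElem_mem _)

theorem el_eq (e : J3.P ≃* G) {v w : List ℕ} (hv : Act.lettersOk J3.actA.n [v] = true)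
    (hw : Act.lettersOk J3.actA.n [w] = true) (h : agree J3.actA [0, 5, 1] v w = true) :
    ev (gJ e) v = ev (gJ e) w := ev_eq_of_agree (homJ e) (detJ e) hv hw h

/-- The two-group. -/
noncomputable abbrev S0 (e : J3.P ≃* G) : Subgroup G := sL.grp (gJ e)

theorem q_le (e : J3.P ≃* G) : qL.grp (gJ e) ≤ S0 e := by
  intro y hy
  obtain ⟨j, hj, rfl⟩ := (ListGrp.mem_grp (ok_q e)).1 hy
  have h := List.all_eq_true.1 q_sub_s (qL.W[j]'hj) (List.getElem_mem _)
  obtain ⟨v, hv, hva⟩ := List.any_eq_true.1 h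
  obtain ⟨i, hi, rfl⟩ := List.getElem_of_mem hv
  refine (ListGrp.mem_grp (ok_s e)).2 ⟨i, hi, ?_⟩
  rw [ListGrp.el, ListGrp.el]
  refine (el_eq e (ok_words q_chk hj) (ok_words s_chk hi) ?_).symm
  rwa [List.getD_eq_getElem _ _ (show j < qL.W.length from hj),
    List.getD_eq_getElem _ _ (show i < sL.W.length from hi)]

theorem t_mem_q (e : J3.P ≃* G) : tJ e ∈ qL.grp (gJ e) :=
  (ListGrp.mem_grp (ok_q e)).2 ⟨1, by decide +kernel, by rw [ListGrp.el, q_one]; rfl⟩

theorem exists_el (e : J3.P ≃* G) {c : G} (hc : c ∈ CJ e) :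
    ∃ a ∈ qL.grp (gJ e), ∃ i < hL.m, c = a * hL.el (gJ e) i := by
  obtain ⟨⟨a, b⟩, hab⟩ := (complJ e).2 ⟨c, hc⟩
  obtain ⟨i, hi, ei⟩ := (ListGrp.mem_grp (ok_h e)).1 (Subgroup.mem_subgroupOf.1 b.2)
  exact ⟨_, Subgroup.mem_subgroupOf.1 a.2, i, hi, by rw [ei]; exact (congrArg Subtype.val hab).symm⟩

theorem centralizer_q (e : J3.P ≃* G) :
    Subgroup.centralizer (qL.grp (gJ e) : Set G) ≤ qL.grp (gJ e) := by
  intro c hc
  have hcC : c ∈ CJ e :=
    Subgroup.mem_centralizer_singleton_iff.2 (Subgroup.mem_centralizer_iff.1 hc _ (t_mem_q e)).symm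
  obtain ⟨a, ha, i, hi, rfl⟩ := exists_el e hcC
  by_cases h0 : i = 0
  · rw [h0, (ok_h e).zero, mul_one]; exact ha
  exfalso
  obtain ⟨j, hj, ej⟩ := (ListGrp.mem_grp (ok_q e)).1 (inv_mem ha)
  have hj' : j < 32 := m_q ▸ hj
  have hi' : i < 60 := m_h ▸ hi
  have ho := List.all_eq_true.1 outer_chk i (List.mem_range.2 hi')
  simp only [Bool.or_eq_true, List.all_eq_true, List.mem_range, Bool.not_eq_true'] at ho
  rcases ho with ho | ho
  · exact h0 (Nat.eq_of_beq_eq_true ho)
  have hj2 := ho j hj'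
  rw [Bool.eq_false_iff] at hj2
  refine hj2 (List.all_eq_true.2 fun k hk => ?_)
  have hk' : k < qL.m := m_q ▸ List.mem_range.1 hk
  have hn := norm_chk
  simp only [normOk, List.all_eq_true, List.mem_range, force_eq, Bool.and_eq_true] at hn
  obtain ⟨hlt, hag⟩ := hn i hi' k (List.mem_range.1 hk)
  set k' := conjQ.at (i * 32 + k)
  have hk2 : k' < qL.m := m_q ▸ Nat.le_of_ble_eq_true hlt
  have hl1 : Act.lettersOk J3.actA.n [hL.W.getD i [] ++ qL.W.getD k []] = true := by
    have a1 := ok_words h_chk hi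
    have a2 := ok_words q_chk hk'
    simp only [Act.lettersOk, List.all_cons, List.all_nil, Bool.and_true, List.all_append] at a1 a2 ⊢
    rw [a1, a2]; rfl
  have hl2 : Act.lettersOk J3.actA.n [qL.W.getD k' [] ++ hL.W.getD i []] = true := by
    have a1 := ok_words h_chk hi
    have a2 := ok_words q_chk hk2
    simp only [Act.lettersOk, List.all_cons, List.all_nil, Bool.and_true, List.all_append] at a1 a2 ⊢
    rw [a1, a2]; rfl
  have hb := el_eq e hl1 hl2 hag
  rw [ev_append, ev_append] at hb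
  have hcm := Subgroup.mem_centralizer_iff.1 hc _ ((ListGrp.mem_grp (ok_q e)).2 ⟨k, hk', rfl⟩)
  set b := hL.el (gJ e) i with hbd
  set q := qL.el (gJ e) k with hqd
  have hb' : b * q = qL.el (gJ e) k' * b := hb
  have key : qL.el (gJ e) k' * qL.el (gJ e) j = qL.el (gJ e) j * q := by
    rw [ej]
    have e1 : qL.el (gJ e) k' = b * q * b⁻¹ := by rw [hb']; group
    rw [e1]
    calc b * q * b⁻¹ * a⁻¹ = a⁻¹ * ((a * b) * q) * (a * b)⁻¹ := by group
      _ = a⁻¹ * (q * (a * b)) * (a * b)⁻¹ := by rw [← hcm]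
      _ = a⁻¹ * q := by group
  rw [(ok_q e).mul k' hk2 j hj, hqd, (ok_q e).mul j hj k hk'] at key
  rw [(ok_q e).inj _ ((ok_q e).lt k' hk2 j hj) _ ((ok_q e).lt j hj k hk') key]
  exact Nat.beq_refl _

theorem conj_q (e : J3.P ≃* G) {c : G} (hc : c ∈ CJ e) {x : G} (hx : x ∈ qL.grp (gJ e)) :
    c * x * c⁻¹ ∈ qL.grp (gJ e) := by
  have := (normalJ e).conj_mem ⟨x, grp_le e q_comm hx⟩ (Subgroup.mem_subgroupOf.2 hx) ⟨c, hc⟩
  exact Subgroup.mem_subgroupOf.1 this

theorem mem_normalizer (e : J3.P ≃* G) {c : G} (hc : c ∈ CJ e) :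
    c ∈ Subgroup.normalizer (qL.grp (gJ e) : Set G) := by
  refine mem_normalizer_of_forall (fun x hx => conj_q e hc hx) fun x hx => ?_
  simpa using conj_q e (inv_mem hc) hx

theorem centralizer_le_closure (e : J3.P ≃* G) : CJ e ≤ Subgroup.closure
    {x : G | x ∈ Subgroup.normalizer (qL.grp (gJ e) : Set G) ∧ ∃ k : ℕ, x ^ 2 ^ k = 1} := by
  intro c hc
  obtain ⟨a, ha, i, hi, rfl⟩ := exists_el e hc
  refine mul_mem (Subgroup.subset_closure ⟨mem_normalizer e (grp_le e q_comm ha), ?_⟩) ?_
  · obtain ⟨n, hn⟩ := (IsPGroup.of_card (p := 2) (n := 5) ((ListGrp.card_grp (ok_q e)).trans m_q) :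
      IsPGroup 2 (qL.grp (gJ e))) ⟨a, ha⟩
    exact ⟨n, by simpa using congrArg Subtype.val hn⟩
  · refine mem_of_chkReach (ok_h e) h_reach (Subgroup.closure _) (fun t ht hsq => ?_) i hi
    exact Subgroup.subset_closure
      ⟨mem_normalizer e (el_mem e h_comm ht), 1, by rw [pow_one, sq, hsq]⟩

theorem isSimple_aux (e : J3.P ≃* G) (S : Sylow 2 G) (hS : (S : Subgroup G) = S0 e) :
    (groupFusionSystem (S : Subgroup G)).IsSimple 2 := by
  haveI : Fact (Nat.Prime 2) := ⟨Nat.prime_two⟩
  have hcard : Nat.card (S0 e) = 128 := (ListGrp.card_grp (ok_s e)).trans m_s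
  refine isSimple_group_of S ?_ ?_ ?_
  · intro h
    rw [hS] at h
    rw [h, Subgroup.card_bot] at hcard
    omega
  · intro T hTS hT1 _ hc
    obtain ⟨y, hy, hy2⟩ : ∃ y ∈ T, orderOf y = 2 := by
      have hp : IsPGroup 2 T := S.2.to_le hTS
      obtain ⟨x, hx⟩ : ∃ x : T, orderOf x = 2 := by
        refine exists_prime_orderOf_dvd_card' 2 ?_
        obtain ⟨n, hn⟩ := IsPGroup.iff_card.1 hp
        rw [hn]
        rcases n with _ | n
        · exact absurd (Subgroup.card_eq_one.1 (hn.trans (pow_zero 2))) hT1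
        · exact dvd_pow_self 2 (by omega)
      exact ⟨x, x.2, by rw [Subgroup.orderOf_coe, hx]⟩
    intro s hs
    rw [hS] at hs
    obtain ⟨i, hi, rfl⟩ := (ListGrp.mem_grp (ok_s e)).1 hs
    refine mem_of_chkReach (ok_s e) s_reach T (fun t ht hsq => ?_) i hi
    rcases eq_or_ne (sL.el (gJ e) t) 1 with h1 | h1
    · rw [h1]; exact one_mem T
    obtain ⟨a, ha⟩ := _root_.isConj_iff.1 (conj_involutions e y (sL.el (gJ e) t) hy2
      (orderOf_eq_prime (by rw [sq, hsq]) h1))
    rw [← ha]
    refine hc a y hy ?_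
    rw [ha, hS]
    exact (ListGrp.mem_grp (ok_s e)).2 ⟨t, ht, rfl⟩
  · intro x hx
    have hxC : x ∈ CJ e := by
      have ht : tJ e ∈ S0 e := q_le e (t_mem_q e)
      obtain ⟨i, hi, ei⟩ := (ListGrp.mem_grp (ok_s e)).1
        (show x * tJ e * x⁻¹ ∈ S0 e by
          have := (Subgroup.mem_normalizer_iff.1 hx (tJ e)).1 (by rw [hS]; exact ht)
          rwa [hS] at this)
      have htt : tJ e * tJ e = 1 := by
        have := pow_orderOf_eq_one (tJ e)
        rwa [tJ_order, sq] at this
      have h := List.all_eq_true.1 centre_chk i (List.mem_range.2 hi)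
      simp only [Bool.or_eq_true, Bool.not_eq_true'] at h
      rcases h with ((h | h) | h) | h
      · exfalso
        rw [Nat.eq_of_beq_eq_true h, (ok_s e).zero, eq_comm, mul_inv_eq_one, mul_eq_left] at ei
        have := tJ_order e
        rw [ei, orderOf_one] at this
        omega
      · exfalso
        have hsq : sL.el (gJ e) i * sL.el (gJ e) i = 1 := by
          rw [ei, show x * tJ e * x⁻¹ * (x * tJ e * x⁻¹) = x * (tJ e * tJ e) * x⁻¹ by group, htt]
          group
        rw [(ok_s e).mul i hi i hi, ← (ok_s e).zero] at hsq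
        rw [(ok_s e).inj _ ((ok_s e).lt i hi i hi) _ (ok_s e).pos hsq] at h
        exact Bool.noConfusion h
      · have he := el_eq e (ok_words s_chk hi) (by decide +kernel) h
        change sL.el (gJ e) i = tJ e at he
        rw [he, eq_comm, mul_inv_eq_iff_eq_mul] at ei
        exact Subgroup.mem_centralizer_singleton_iff.2 ei
      · exfalso
        rw [Bool.eq_false_iff] at h
        refine h (List.all_eq_true.2 fun j hj => ?_)
        have hj' : j < sL.m := List.mem_range.1 hj
        set y := sL.el (gJ e) j with hy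
        have hy' : x⁻¹ * y * x ∈ S0 e := by
          have := (Subgroup.mem_normalizer_iff.1 (inv_mem hx) y).1
            (by rw [hS]; exact (ListGrp.mem_grp (ok_s e)).2 ⟨j, hj', rfl⟩)
          rwa [inv_inv, hS] at this
        have hzc : tJ e * (x⁻¹ * y * x) = x⁻¹ * y * x * tJ e := by
          obtain ⟨l, hl, el⟩ := (ListGrp.mem_grp (ok_s e)).1 hy'
          rw [← el]
          exact (Subgroup.mem_centralizer_singleton_iff.1 (el_mem e s_comm hl)).symm
        have hcm : sL.el (gJ e) i * y = y * sL.el (gJ e) i := by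
          rw [ei]
          calc x * tJ e * x⁻¹ * y = x * (tJ e * (x⁻¹ * y * x)) * x⁻¹ := by group
            _ = y * (x * tJ e * x⁻¹) := by rw [hzc]; group
        rw [hy, (ok_s e).mul i hi j hj', (ok_s e).mul j hj' i hi] at hcm
        rw [(ok_s e).inj _ ((ok_s e).lt i hi j hj') _ ((ok_s e).lt j hj' i hi) hcm]
        exact Nat.beq_refl _
    refine Subgroup.subset_closure ⟨hx, Or.inr ⟨qL.grp (gJ e), hS ▸ q_le e, ?_, centralizer_q e,
      centralizer_le_closure e hxC⟩⟩
    intro s hs
    rw [hS] at hs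
    exact mem_normalizer e (grp_le e s_comm hs)

theorem gJ_conj (e : J3.P ≃* G) (c : G) :
    gJ (e.trans (MulAut.conj c)) = fun s => MulAut.conj c (gJ e s) := rfl

theorem isSimple (e : J3.P ≃* G) (S : Sylow 2 G) : (groupFusionSystem (S : Subgroup G)).IsSimple 2 := by
  haveI : Fact (Nat.Prime 2) := ⟨Nat.prime_two⟩
  obtain ⟨c, hc⟩ := MulAction.exists_smul_eq G (Sylow.ofCard (S0 e) (card_two e)) S
  refine isSimple_aux (e.trans (MulAut.conj c)) S ?_
  rw [← hc, Sylow.coe_subgroup_smul]
  show (S0 e).map (MulAut.conj c).toMonoidHom = _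
  rw [S0, S0, ListGrp.grp, ListGrp.grp, MonoidHom.map_closure]
  congr 1
  ext y
  simp only [Set.mem_image, Set.mem_ofPred_eq]
  constructor
  · rintro ⟨_, ⟨i, hi, rfl⟩, rfl⟩
    refine ⟨i, hi, ?_⟩
    rw [ListGrp.el, ListGrp.el, gJ_conj]
    exact (ev_map (MulAut.conj c).toMonoidHom (gJ e) _).symm
  · rintro ⟨i, hi, rfl⟩
    refine ⟨_, ⟨i, hi, rfl⟩, ?_⟩
    rw [ListGrp.el, ListGrp.el, gJ_conj]
    exact ev_map (MulAut.conj c).toMonoidHom (gJ e) _

end Cfsg.Agent.Fus.J3Fusion
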